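import Mathlib.RingTheory.Length
import Mathlib.RingTheory.Ideal.KrullsHeightTheorem
import Mathlib.RingTheory.Nakayama
import Mathlib.LinearAlgebra.Dimension.Finite

/-! # A length bound for curves of multiplicity `m` -/

set_option autoImplicit false
universe u

open IsLocalRing

namespace Groth.Agent.MultDeg12

variable {R T : Type u} [CommRing R] [IsLocalRing R] [IsNoetherianRing R] [CommRing T] [IsLocalRing T]

/-- A quotient of a two dimensional local ring by an ideal in `𝔪 ^ m` has multiplicity at least `m`. -/
theorem le_length_quotient (h2 : (2 : WithBot ℕ∞) ≤ ringKrullDim R) (φ : R →+* T) (hφ : Function.Surjective φ)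
    (m : ℕ) (hker : RingHom.ker φ ≤ maximalIdeal R ^ m) {α : T} (hα : α ∈ maximalIdeal T) :
    (m : ℕ∞) ≤ Module.length T (T ⧸ Ideal.span {α}) := by
  obtain ⟨a, rfl⟩ := hφ α
  have ha : a ∈ maximalIdeal R := (mem_maximalIdeal a).2 fun h => (mem_maximalIdeal _).1 hα (h.map φ)
  have hstrict : ∀ i, maximalIdeal R ^ (i + 1) ⊔ Ideal.span {a} < maximalIdeal R ^ i ⊔ Ideal.span {a} := by
    intro i
    refine lt_of_le_of_ne (sup_le_sup_right (Ideal.pow_le_pow_right i.le_succ) _) fun e => ?_
    have h1 : maximalIdeal R ^ i ≤ Ideal.span {a} := by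
      refine Submodule.le_of_le_smul_of_le_jacobson_bot (I := maximalIdeal R) (IsNoetherian.noetherian _)
        (IsLocalRing.maximalIdeal_le_jacobson ⊥) ?_
      rw [sup_comm, smul_eq_mul, ← pow_succ', e]
      exact le_sup_left
    have hmin : maximalIdeal R ∈ (Ideal.span {a}).minimalPrimes := by
      refine ⟨⟨inferInstance, (Ideal.span_singleton_le_iff_mem _).2 ha⟩, fun q hq hle => ?_⟩
      exact (hq.1).le_of_pow_le (h1.trans hq.2)
    have h3 : ((maximalIdeal R).height : WithBot ℕ∞) ≤ ((1 : ℕ∞) : WithBot ℕ∞) :=
      WithBot.coe_le_coe.2 (Ideal.height_le_one_of_isPrincipal_of_mem_minimalPrimes (Ideal.span {a}) _ hmin)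
    rw [maximalIdeal_height_eq_ringKrullDim] at h3
    exact absurd (h2.trans h3) (by decide)
  let J : ℕ → Ideal T := fun i => Ideal.map φ (maximalIdeal R ^ i ⊔ Ideal.span {a})
  have hcomap : ∀ i, i ≤ m → Ideal.comap φ (J i) = maximalIdeal R ^ i ⊔ Ideal.span {a} := fun i hi => by
    rw [Ideal.comap_map_of_surjective φ hφ, ← RingHom.ker_eq_comap_bot, sup_eq_left]
    exact hker.trans ((Ideal.pow_le_pow_right hi).trans le_sup_left)
  have hJ : ∀ i, i + 1 ≤ m → J (i + 1) < J i := fun i hi => by
    refine lt_of_le_of_ne (Ideal.map_mono (hstrict i).le) fun e => (hstrict i).ne ?_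
    rw [← hcomap (i + 1) hi, ← hcomap i (by omega), e]
  let q := Submodule.mkQ (Ideal.span {φ a})
  have hsp : ∀ i, Ideal.span {φ a} ≤ J i := fun i => (Ideal.span_singleton_le_iff_mem _).2
    (Ideal.mem_map_of_mem φ (Ideal.mem_sup_right (Ideal.mem_span_singleton_self a)))
  let s : LTSeries (Submodule T (T ⧸ Ideal.span {φ a})) :=
    { length := m
      toFun := fun i => Submodule.map q (J (m - i.val))
      step := fun i => by
        show Submodule.map q (J (m - i.castSucc.val)) < Submodule.map q (J (m - i.succ.val))
        rw [Fin.val_castSucc, Fin.val_succ]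
        have hi := i.isLt
        have h := hJ (m - (i.val + 1)) (by omega)
        rw [show m - (i.val + 1) + 1 = m - i.val by omega] at h
        refine lt_of_le_of_ne (Submodule.map_mono h.le) fun e => h.ne ?_
        have := congrArg (Submodule.comap q) e
        rwa [Submodule.comap_map_mkQ, Submodule.comap_map_mkQ, sup_eq_right.2 (hsp _), sup_eq_right.2 (hsp _)] at this }
  have h := Order.LTSeries.length_le_krullDim s
  rw [← Module.coe_length] at h
  exact WithBot.coe_le_coe.1 h

/-- Length is bounded by the dimension over a subfield. -/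
theorem length_le_finrank {k : Type u} [Field k] {M : Type u} [AddCommGroup M] [Module T M] [Module k M]
    [Algebra k T] [IsScalarTower k T M] [Module.Finite k M] :
    Module.length T M ≤ (Module.finrank k M : ℕ∞) := by
  rw [← Module.length_eq_finrank k M, ← WithBot.coe_le_coe, Module.coe_length, Module.coe_length]
  exact Order.krullDim_le_of_strictMono (Submodule.restrictScalars k) fun p q h =>
    lt_of_le_of_ne h.le fun e => h.ne (Submodule.restrictScalars_injective k _ _ e)

end Groth.Agent.MultDeg12
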