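import Groth.Agent.Lib.MultDeg12.Alg
import Groth.Agent.Lib.Curve17.ProjSep
import Groth.Agent.Lib.CurveAmple18.Basic
import Groth.Agent.Lib.RegImm26.Noeth
import Groth.Agent.Lib.SmDim19.Basic
import Groth.Agent.Lib.RefCh12.Index
import Groth.Agent.Lib.RefCh12.Twist
import Groth.Agent.Lib.Twist.ProjSpace
import Groth.Agent.Lib.Twist.Pullback

/-! # Multiplicity bounds the degree of a curve -/

set_option autoImplicit false
set_option linter.style.haveILetI false
set_option backward.isDefEq.respectTransparency false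
set_option backward.isDefEq.respectTransparency.types false
universe u

open CategoryTheory CategoryTheory.Limits AlgebraicGeometry

namespace Groth.Agent.MultDeg12

attribute [local instance] CurveCoh17.stalkMod

theorem mult_le_deg {k : Type u} [Field k] [IsAlgClosed k]
    (S : Scheme.{u}) [S.Over (Spec (CommRingCat.of k))] [IsIntegral S]
    [SmoothOfRelativeDimension 2 (S ↘ Spec (CommRingCat.of k))]
    (n : ℕ) (ι : S ⟶ CohB1.ProjSpace n k) [IsClosedImmersion ι]
    (hι : ι ≫ CohB1.ProjSpace.toSpec n k = S ↘ Spec (CommRingCat.of k))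
    (C : Scheme.{u}) [C.Over (Spec (CommRingCat.of k))] [IsIntegral C] (hdimC : topologicalKrullDim ↥C = 1)
    (j : C ⟶ S) [IsClosedImmersion j] (hj : j ≫ (S ↘ Spec (CommRingCat.of k)) = C ↘ Spec (CommRingCat.of k))
    (P : ↥S) (hP : IsClosed ({P} : Set ↥S)) (m : ℕ)
    (hm : j.ker ≤ Scheme.IdealSheafData.vanishingIdeal ⟨{P}, hP⟩ ^ m) :
    (m : ℤ) ≤ Curv2.deg k C ((Scheme.Modules.pullback j).obj
      ((Scheme.Modules.pullback ι).obj (_root_.Twist.twistProjSpace n k 1))) 1 := by
  classical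
  haveI : IsProper (CohB1.ProjSpace.toSpec n k) := ProjSpace.isProper_toSpec n k
  let f : C ⟶ CohB1.ProjSpace n k := j ≫ ι
  let pC := C ↘ Spec (CommRingCat.of k)
  have hf : f ≫ CohB1.ProjSpace.toSpec n k = pC := by rw [Category.assoc, hι, hj]
  haveI : IsClosedImmersion f := inferInstanceAs (IsClosedImmersion (j ≫ ι))
  haveI : IsProper pC := by rw [← hf]; infer_instance
  haveI : IsProper (S ↘ Spec (CommRingCat.of k)) := by rw [← hι]; infer_instance
  haveI : IsLocallyNoetherian S := LocallyOfFiniteType.isLocallyNoetherian (S ↘ Spec (CommRingCat.of k))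
  have hC := CurveAmple18.curveLike k C hdimC.le
  haveI := hC.noetherian
  let N := (Scheme.Modules.pullback f).obj (_root_.Twist.twist (CohB1.polyGrading n k) 1)
  have hN : PicF.IsInvertible N := Twist.isInvertible_pullback f (Twist.isInvertible_twistProjSpace n k 1)
  have eN : N ≅ (Scheme.Modules.pullback j).obj ((Scheme.Modules.pullback ι).obj (_root_.Twist.twistProjSpace n k 1)) :=
    ((Scheme.Modules.pullbackComp j ι).app _).symm
  rw [← CurveCoh17.deg_iso eN]
  rcases Nat.eq_zero_or_pos m with rfl | hm0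
  · obtain ⟨i, hi⟩ := Curve17.exists_X_notMem (f (genericPoint C))
    obtain ⟨c, hc⟩ : ∃ c : Fin (n + 1) → k, Curve17.linForm c ∉ (f (genericPoint C)).asHomogeneousIdeal.toIdeal := by
      obtain ⟨c, hc⟩ := Curve17.exists_linForm_eq i i (0 : k)
      exact ⟨c, by rw [hc]; simpa using hi⟩
    have hs : Curve17.vSec pC f c ≠ 0 := fun h0 => by
      refine hc ((Curve17.germ_vSec_mem_iff pC f _ hf c).1 ?_)
      rw [h0, map_zero]
      exact zero_mem _
    exact (CurveAmple18.deg_section hdimC.le hN _ hs).1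
  have hpP : ∀ (U : S.affineOpens) (hU : P ∈ U.1),
      Ideal.map (S.presheaf.germ U.1 P hU).hom (j.ker.ideal U) ≤ IsLocalRing.maximalIdeal (S.presheaf.stalk P) ^ m := by
    intro U hU
    refine (Ideal.map_mono (hm U)).trans ?_
    rw [Scheme.IdealSheafData.ideal_pow, Pi.pow_apply, Ideal.map_pow]
    refine Ideal.pow_right_mono (Ideal.map_le_iff_le_comap.2 fun a ha => ?_) m
    rw [Scheme.IdealSheafData.vanishingIdeal_ideal, PrimeSpectrum.mem_vanishingIdeal] at ha
    have h1 := ha (U.2.primeIdealOf ⟨P, hU⟩) (show U.2.fromSpec _ ∈ ({P} : Set S) by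
      rw [U.2.fromSpec_primeIdealOf ⟨P, hU⟩]; rfl)
    rw [Ideal.mem_comap, IsLocalRing.mem_maximalIdeal, mem_nonunits_iff, ← Scheme.mem_basicOpen _ _ P hU]
    intro hb
    have h2 : U.2.primeIdealOf ⟨P, hU⟩ ∈ U.2.fromSpec ⁻¹ᵁ S.basicOpen a := by
      show U.2.fromSpec _ ∈ S.basicOpen a
      rw [U.2.fromSpec_primeIdealOf ⟨P, hU⟩]; exact hb
    rw [U.2.fromSpec_preimage_basicOpen] at h2
    exact h2 h1
  obtain ⟨P', rfl⟩ : ∃ P', j P' = P := by
    by_contra h
    obtain ⟨U, hU, hPU, hle⟩ := exists_isAffineOpen_mem_and_subset (x := P)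
      (U := (⟨(Set.range j)ᶜ, j.isClosedEmbedding.isClosed_range.isOpen_compl⟩ : S.Opens)) h
    have hbot : j ⁻¹ᵁ U = ⊥ := TopologicalSpace.Opens.ext (Set.eq_empty_iff_forall_notMem.2 fun z hz => hle hz ⟨z, rfl⟩)
    have h1 : j.ker.ideal ⟨U, hU⟩ = ⊤ := by
      rw [Scheme.Hom.ker_apply]
      haveI : Subsingleton Γ(C, j ⁻¹ᵁ U) := by rw [hbot]; infer_instance
      exact Ideal.eq_top_iff_one _ |>.2 (RingHom.mem_ker.2 (Subsingleton.elim (α := Γ(C, j ⁻¹ᵁ U)) _ _))
    have h2 := hpP ⟨U, hU⟩ hPU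
    rw [h1, Ideal.map_top] at h2
    exact (IsLocalRing.maximalIdeal.isMaximal _).ne_top (top_le_iff.1 (h2.trans (Ideal.pow_le_self (by omega))))
  have hP' : IsClosed ({P'} : Set C) := by
    have : ({P'} : Set C) = j ⁻¹' {j P'} := Set.ext fun z => ⟨fun h => by rw [h]; rfl, fun h => j.isClosedEmbedding.injective h⟩
    rw [this]; exact hP.preimage j.continuous
  let η := genericPoint C
  have hne : P' ≠ η := fun h => Curve17.not_isClosed_genericPoint hdimC (by rw [h] at hP'; exact hP')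
  obtain ⟨i, hi⟩ := Curve17.exists_X_notMem (f P')
  obtain ⟨a, ha⟩ := Curve17.exists_coords pC f i P' hi hf hP'
  obtain ⟨j', hj'⟩ : ∃ l, MvPolynomial.X l - MvPolynomial.C (a l) * MvPolynomial.X i ∉
      (f η).asHomogeneousIdeal.toIdeal := by
    by_contra h
    push Not at h
    exact hne (f.isClosedEmbedding.injective (Curve17.eq_of_forall_mem (f P') (f η) i hi a ha h))
  obtain ⟨c, hc⟩ := Curve17.exists_linForm_eq i j' (a j')
  let v := Curve17.vSec pC f c
  have h1 := (Curve17.germ_vSec_mem_iff pC f P' hf c).2 (hc ▸ ha j')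
  have hv : v ≠ 0 := fun h0 => hj' (hc ▸ (Curve17.germ_vSec_mem_iff pC f η hf c).1 (by
    show N.presheaf.germ ⊤ η _ v ∈ _
    rw [h0, map_zero]; exact zero_mem _))
  have rk := CurveCoh17.rkOne_of_invertible hdimC.le hN
  obtain ⟨hmono, T, hT⟩ := rk.sec v hv
  haveI := hmono
  obtain ⟨t, ht, he, -⟩ := hC.section_numerics rk hv
  have hQ := CurveCoh17.adm₃ (CurveCoh17.secSC_shortExact v) (hC.adm (CurveCoh17.isCoh_structureModule (X := C))) (hC.adm rk.coh)
  haveI hfin : ∀ x : T, Module.Finite k ((cokernel (M1.secHom v)).presheaf.stalk (x : C)) := hT.finite_stalk (hQ.fin 0)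
  -- the local computation
  obtain ⟨g, hg⟩ := Cyc26.exists_gen hN P'
  obtain ⟨α, hα⟩ := hg.2 (N.presheaf.germ ⊤ P' trivial v)
  simp only at hα
  have hαm : α ∈ IsLocalRing.maximalIdeal (C.presheaf.stalk P') := by
    by_contra hu
    rw [IsLocalRing.mem_maximalIdeal, mem_nonunits_iff, not_not] at hu
    have hg' : Amp.Gen (α • g) := (hg.ne_zero_smul α).2 hu
    have h1' : α • g ∈ IsLocalRing.maximalIdeal (C.presheaf.stalk P') • (⊤ : Submodule (C.presheaf.stalk P') _) := by
      rw [hα]; exact h1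
    let e := LinearMap.toSpanSingleton (C.presheaf.stalk P') _ (α • g)
    rw [← LinearMap.range_eq_top.2 (show Function.Surjective e from hg'.2), ← Submodule.map_top, ← Submodule.map_smul'',
      Ideal.smul_eq_mul, Ideal.mul_top] at h1'
    obtain ⟨b, hb, hbe⟩ := h1'
    have : b = 1 := hg'.1 (hbe.trans (one_smul _ _).symm)
    rw [this] at hb
    exact (IsLocalRing.mem_maximalIdeal _).1 hb isUnit_one
  obtain ⟨U, hU, hPU, -⟩ := exists_isAffineOpen_mem_and_subset (x := j P') (U := (⊤ : S.Opens)) trivial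
  have hker : RingHom.ker (j.stalkMap P').hom ≤ IsLocalRing.maximalIdeal (S.presheaf.stalk (j P')) ^ m := by
    rw [RegImm26.ker_stalkMap_eq j P' hU hPU, ← Scheme.Hom.ker_apply j ⟨U, hU⟩]
    exact hpP ⟨U, hU⟩ hPU
  have hdim2 : (2 : WithBot ℕ∞) ≤ ringKrullDim (S.presheaf.stalk (j P')) := by
    rw [SmDim19.ringKrullDim_stalk_of_isClosed (S ↘ Spec (CommRingCat.of k)) 2 hP]; rfl
  have hlen := MultDeg12.le_length_quotient hdim2 (j.stalkMap P').hom (j.stalkMap_surjective P') m hker hαm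
  obtain ⟨eQ⟩ := RefCh12.nonempty_coker_equiv (M1.secHom v) (RefCh12.gen_oneAt P') hg (α := α) (by
    rw [hα, RefCh12.oneAt, CurveCoh17.stalkLin_apply, M1.germ_naturality, M1.secHom_app_one])
  letI : Algebra k (C.presheaf.stalk P') := (CurveCoh17.stalkRingMap k P').toAlgebra
  haveI : IsScalarTower k (C.presheaf.stalk P') ((cokernel (M1.secHom v)).presheaf.stalk P') :=
    IsScalarTower.of_algebraMap_smul fun a m => rfl
  rw [eQ.length_eq] at hlen
  have hmem : P' ∈ T := by
    by_contra h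
    haveI : Subsingleton ((cokernel (M1.secHom v)).presheaf.stalk P') := subsingleton_of_forall_eq 0 (hT.zero P' h)
    rw [Module.length_eq_zero, nonpos_iff_eq_zero, Nat.cast_eq_zero] at hlen
    omega
  haveI := hfin ⟨P', hmem⟩
  have hle := hlen.trans (MultDeg12.length_le_finrank (k := k) (T := C.presheaf.stalk P'))
  rw [Nat.cast_le] at hle
  rw [Curv2.deg, he, ht, (hT.h0Equiv k).finrank_eq, Module.finrank_pi_fintype]
  have h3 := Finset.single_le_sum (f := fun x : T => Module.finrank k ((cokernel (M1.secHom v)).presheaf.stalk (x : C))) (fun _ _ => Nat.zero_le _) (Finset.mem_univ ⟨P', hmem⟩)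
  have h4 : (m : ℤ) ≤ _ := Nat.cast_le.2 (hle.trans h3)
  push_cast at h4 ⊢
  linarith

end Groth.Agent.MultDeg12
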